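import Cfsg.Agent.Lib.CosetEnum.Defs

/-! Generated table data. -/

set_option autoImplicit false
set_option maxRecDepth 20000

namespace Cfsg.Lib.CosetEnum.MclStepL

/-- Table data. -/
def tabC_0_0 : Tab :=
  (.node 24 (.node 12 (.node 6 (.node 3 (.node 1 (.leaf 0x40000000000000007) (.node 1 (.leaf 0x1000008000000000080000000014c0000300000000003) (.leaf 0x100002c00005000044000090000100000300000800003))) (.node 1 (.leaf 0x1000040000080000600000e00001c0000300001000003) (.node 1 (.leaf 0x100005c0000d000088000150000300000300001c00003) (.leaf 0x10000c00001e00010c0002e0000740000300004c00003)))) (.node 3 (.node 1 (.leaf 0x10000cc00021000118000320000800000300005400003) (.node 1 (.leaf 0x10000f80002800012c0003c00009c0000300006800003) (.leaf 0x100001400001000020000030000000000300000000004))) (.node 1 (.leaf 0x100003400006000034000060001500000300000c00004) (.node 1 (.leaf 0x100004c0000a000078000120000240000300001400004) (.leaf 0x10000680000f0000a0000190000380000300002000004))))) (.node 6 (.node 3 (.node 1 (.leaf 0x1000084000140000b40001c0001540000300003000004) (.node 1 (.leaf 0x1000090000160000d8000230000540000300003400004) (.leaf 0x10000ac0001b0000ec000260001580000300004400004)))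 (.node 1 (.leaf 0x1000028000040000040000a0000100000100014c0000400000000005) (.node 1 (.leaf 0x100007c0001300007c000130001880000300002c00003) (.leaf 0x1000114000310001140003100018c0000300008000004)))) (.node 3 (.node 1 (.leaf 0x100003c0000700000c00016000030000060000080000400000400005) (.node 1 (.leaf 0x10000a40001a0000dc000240001940000300004000003) (.leaf 0x10000a80001b0000400005b0000800001400002c0000300001800005))) (.node 1 (.leaf 0x10000e00002500005c0005c0000e00002500005c0000300003800005) (.node 1 (.leaf 0x40003100007c00013000028000040000040003600008c00015000030000060000080000000014c0000800000000006) (.leaf 0x1000114000690000d8000480000d40000200009000003)))))) (.node 12 (.node 6 (.node 3 (.node 1 (.leaf 0x10000c00005d0000dc000600001a40003100007c0000500005000005) (.node 1 (.leaf 0x4000290000680000f00001c000030000f8000280000640000e00001c00003000008000540000080000900000400006) (.leaf 0x10001680006c0001600006b000198000030000a800004))) (.node 1 (.leaf 0x1000138000440001440004c00012c0006d00010c000050000bc00005) (.node 1 (.leaf 0x4000320000800001400002c0000500000400053000004000410000b00001c000044000090000100000600000800006) (.leaf 0x10000fc000670001040006f0000c80000300008400004))))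 (.node 3 (.node 1 (.leaf 0x10000bc0001d000048000700000b00001c0000440000400002800005) (.node 1 (.leaf 0x10001000002b0001c40003f0000a80000300007000003) (.leaf 0x1000134000720000bc000440000b80000200007800004))) (.node 1 (.leaf 0x40004d0001000002b00006c0001000016c000730001100002e000074000120000440005500002c0000800001800006) (.node 1 (.leaf 0x1000138000730001d0000730001380000100011400003) (.leaf 0x1000184000610001000004d0001d00004d000100000060000b000005))))) (.node 6 (.node 3 (.node 1 (.leaf 0x10000e80003b0001d80003b0000e80000100009c00003) (.node 1 (.leaf 0x4000490000e00002500005c0000d0000180000200000c000770000e8000260000600000e00001c0000600001000006) (.leaf 0x10000f400027000064000780000e8000260000600000400003c00005))) (.node 1 (.leaf 0x1000128000390001e4000490000e00000300009800003) (.node 1 (.leaf 0x4000410001c00003f0000a80001b0000400000800000c0000200001800034000088000150000300000400001c00006) (.leaf 0x10001080002d0001ec000410000b00000300007400003)))) (.node 3 (.node 1 (.leaf 0x10000e4000250001f00003400015c0000300006000004) (.node 1 (.leaf 0x10000d4000230001180006f0001ec000340000880000500005800005) (.leaf 0x1000140000470001200007e000164000030000d000004))) (.node 2 (.node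 1 (.leaf 0x10001280007d0001080005f00013c000470000cc0000300008800005) (.leaf 0x10002000007a0000f40004c0000f0000020000a000004)) (.node 1 (.leaf 0x1000148000500001440008100013c0000300012000003) (.leaf 0x10002080006e0002080006e0001d40000300013c00004)))))))

/-- Table data. -/
def tabC_0 : Tab :=
  tabC_0_0

end Cfsg.Lib.CosetEnum.MclStepL
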