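import Cfsg.Agent.Lib.CosetEnum.Defs

/-! Generated table data. -/

set_option autoImplicit false
set_option maxRecDepth 20000

namespace Cfsg.Lib.CosetEnum.MclStepL

/-- Table data. -/
def tabF_0_0 : Tab :=
  (.node 1 (.leaf 0x1580008010000000001480007e00000000001400007c20000000001400007a10000000001380007810000000001380007600000000001300007410000000001300007200000000001280007000000000001200006e10000000001200006c00000000001180006a20000000001100006800000000001080006610000000001000006420000000000f80006200000000000f00006020000000000f00005e10000000000e80005c10000000000e80005a00000000000e00005810000000000e00005600000000000d80005400000000000d00005210000000000d00005000000000000c80004e20000000000c00004c20000000000b80004a10000000000b00004820000000000b00004600000000000a80004410000000000a80004200000000000a00004000000000000980003e10000000000980003c00000000000900003a20000000000880003820000000000800003610000000000780003420000000000780003200000000000700003000000000000680002e20000000000680002c10000000000600002a20000000000580002810000000000500002620000000000500002400000000000480002200000000000400002020000000000400001e10000000000380001c10000000000380001a00000000000300001800000000000280001620000000000280001410000000000200001210000000000200001000000000000180000e20000000000100000c10000000000100000a0000000000008000082000000000008000060000000000000000042000000000000000021) (.node 1 (.leaf 0x248000a220000000002380006c20000000002180007420000000001a80008610000000001a80008400000000001f0000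9610000000002500007c00000000001d80009420000000001d80007610000000001e00007800000000002780009e10000000002700009c00000000002280009c10000000001800008210000000002000006000000000001680008020000000002100006620000000002900009e20000000002200009820000000001f80005420000000001c00006220000000002480008c00000000001b80006400000000001c80007220000000001080005620000000001c00005410000000000b80002000000000002300008c20000000001000004010000000000580001600000000001e00005820000000001b80004a20000000001700004420000000001480003620000000000f80002820000000000700001c20000000000480000c20000000002600007e10000000002380006810000000002200006210000000001180003010000000000c8000221000000000090000181000000000018000061000000000000000000000000000288000a60000000000268000a40000000000240000a21000000000240000a000000000002280009e00000000002080009c20000000001e80009a20000000001e80009800000000001d00009600000000001c80009410000000001b00009210000000001a00009020000000001980008e00000000001900008c10000000001780008a2000000000178000880000000000170000860000000000168000841000000000160000820) (.leaf 0x298000a62000000000290000a61000000000268000a01000000000280000962)))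

/-- Table data. -/
def tabF_0 : Tab :=
  tabF_0_0

end Cfsg.Lib.CosetEnum.MclStepL
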